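import Groth.Prelude.Def_W4c5suslinpi1abAdj
import Mathlib.CategoryTheory.Monoidal.Functor

/-! Formal calculus of projection morphisms, cup products and exterior products. -/

set_option autoImplicit false
universe v u

open CategoryTheory MonoidalCategory Functor.LaxMonoidal Functor.OplaxMonoidal
open W4c5suslinpi1ab

namespace Groth.Agent.SuslinPi1

variable {C : Type u} [Category.{v} C] [MonoidalCategory C]
variable {D : Type u} [Category.{v} D] [MonoidalCategory D]
variable {L : C ⥤ D} {R : D ⥤ C} (adj : L ⊣ R)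

theorem projR_naturality [R.LaxMonoidal] {A A' : D} {B B' : C} (a : A ⟶ A') (b : B ⟶ B') :
    (R.map a ⊗ₘ b) ≫ projR adj A' B' = projR adj A B ≫ R.map (a ⊗ₘ L.map b) := by
  have h := adj.unit.naturality b
  dsimp at h
  unfold projR
  rw [Category.assoc, ← μ_natural, ← Category.assoc, ← Category.assoc]
  congr 1
  rw [tensorHom_def, Category.assoc, ← MonoidalCategory.whiskerLeft_comp, h,
    MonoidalCategory.whiskerLeft_comp, ← Category.assoc, ← whisker_exchange, Category.assoc,
    tensorHom_def]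

theorem projL_naturality [R.LaxMonoidal] {A A' : C} {B B' : D} (a : A ⟶ A') (b : B ⟶ B') :
    (a ⊗ₘ R.map b) ≫ projL adj A' B' = projL adj A B ≫ R.map (L.map a ⊗ₘ b) := by
  have h := adj.unit.naturality a
  dsimp at h
  unfold projL
  rw [Category.assoc, ← μ_natural, ← Category.assoc, ← Category.assoc]
  congr 1
  rw [tensorHom_def', Category.assoc, ← comp_whiskerRight, h,
    comp_whiskerRight, ← Category.assoc, whisker_exchange, Category.assoc,
    tensorHom_def']

theorem map_projR_counit [L.OplaxMonoidal] [R.LaxMonoidal] [adj.IsMonoidal] (A : D) (B : C) :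
    L.map (projR adj A B) ≫ adj.counit.app (A ⊗ L.obj B) =
      δ L (R.obj A) B ≫ (adj.counit.app A ▷ L.obj B) := by
  unfold projR
  rw [L.map_comp, Category.assoc, Adjunction.map_μ_comp_counit_app_tensor,
    ← Category.assoc]
  erw [← δ_natural_right]
  rw [Category.assoc]
  refine congrArg (δ L (R.obj A) B ≫ ·) ?_
  change (L.obj (R.obj A) ◁ L.map (adj.unit.app B)) ≫ _ = _
  rw [tensorHom_def', ← MonoidalCategory.whiskerLeft_comp_assoc]
  erw [adj.left_triangle_components]
  erw [MonoidalCategory.whiskerLeft_id, Category.id_comp]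
  try rfl

theorem map_projL_counit [L.OplaxMonoidal] [R.LaxMonoidal] [adj.IsMonoidal] (A : C) (B : D) :
    L.map (projL adj A B) ≫ adj.counit.app (L.obj A ⊗ B) =
      δ L A (R.obj B) ≫ (L.obj A ◁ adj.counit.app B) := by
  unfold projL
  rw [L.map_comp, Category.assoc, Adjunction.map_μ_comp_counit_app_tensor,
    ← Category.assoc]
  erw [← δ_natural_left]
  rw [Category.assoc]
  refine congrArg (δ L A (R.obj B) ≫ ·) ?_
  change (L.map (adj.unit.app A) ▷ L.obj (R.obj B)) ≫ _ = _
  rw [tensorHom_def, ← comp_whiskerRight_assoc]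
  erw [adj.left_triangle_components]
  erw [id_whiskerRight, Category.id_comp]
  try rfl

omit [MonoidalCategory C] [MonoidalCategory D] in
theorem map_homEquiv_counit {X : C} {Y : D} (f : L.obj X ⟶ Y) :
    L.map (adj.homEquiv X Y f) ≫ adj.counit.app Y = f := by
  simp [Adjunction.homEquiv_unit]

theorem cupShriek_naturality {S : C ⥤ D} (adj' : R ⊣ S) [R.LaxMonoidal]
    [∀ (A : D) (B : C), IsIso (projR adj A B)] (A : C) {B B' : C} (φ : B ⟶ B') :
    (S.obj A ◁ L.map φ) ≫ cupShriek adj adj' A B' =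
      cupShriek adj adj' A B ≫ S.map (A ◁ φ) := by
  unfold cupShriek
  rw [← Adjunction.homEquiv_naturality_right, ← Adjunction.homEquiv_naturality_left]
  congr 1
  have h := projR_naturality adj (𝟙 (S.obj A)) φ
  rw [R.map_id, id_tensorHom, id_tensorHom] at h
  have h2 : R.map (S.obj A ◁ L.map φ) ≫ inv (projR adj (S.obj A) B') =
      inv (projR adj (S.obj A) B) ≫ (R.obj (S.obj A) ◁ φ) := by
    rw [IsIso.eq_inv_comp, ← Category.assoc, ← h, Category.assoc, IsIso.hom_inv_id,
      Category.comp_id]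
  rw [← Category.assoc, h2, Category.assoc, Category.assoc, whisker_exchange]
  rfl

section Square

variable {S₀ : Type u} [Category.{v} S₀] [MonoidalCategory S₀]
variable {Y₁ : Type u} [Category.{v} Y₁] [MonoidalCategory Y₁]
variable {Y₂ : Type u} [Category.{v} Y₂] [MonoidalCategory Y₂]
variable {X : Type u} [Category.{v} X] [MonoidalCategory X]
variable {fL : S₀ ⥤ Y₁} {fR : Y₁ ⥤ S₀} {gR : Y₂ ⥤ S₀}
variable {pL : Y₁ ⥤ X} {pR : X ⥤ Y₁} {qL : Y₂ ⥤ X} {qR : X ⥤ Y₂}
variable (adjf : fL ⊣ fR) (adjp : pL ⊣ pR) (adjq : qL ⊣ qR) (ν : qR ⋙ gR ⟶ pR ⋙ fR)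

omit [MonoidalCategory Y₂] in
theorem extProd_naturality [fR.LaxMonoidal] [pR.LaxMonoidal] {A A' : Y₁} {B B' : Y₂}
    (a : A ⟶ A') (b : B ⟶ B') :
    (fR.map a ⊗ₘ gR.map b) ≫ extProd adjf adjp adjq ν A' B' =
      extProd adjf adjp adjq ν A B ≫ fR.map (pR.map (pL.map a ⊗ₘ qL.map b)) := by
  have h := (bcMor adjf adjq ν).naturality b
  dsimp at h
  unfold extProd
  rw [← Category.assoc, projR_naturality, Category.assoc, Category.assoc, Category.assoc,
    ← fR.map_comp, ← fR.map_comp, ← fR.map_comp, ← fR.map_comp]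
  refine congrArg (fun k => projR adjf A (gR.obj B) ≫ fR.map k) ?_
  rw [← projL_naturality, ← Category.assoc, ← Category.assoc]
  refine congrArg (· ≫ projL adjp A' (qL.obj B')) ?_
  rw [tensorHom_def, Category.assoc,
    ← MonoidalCategory.whiskerLeft_comp, h, MonoidalCategory.whiskerLeft_comp, ← Category.assoc,
    ← whisker_exchange, Category.assoc, ← tensorHom_def]

variable {fS : S₀ ⥤ Y₁} {gS : S₀ ⥤ Y₂} {pS : Y₁ ⥤ X}
variable (adjf' : fR ⊣ fS) (adjg' : gR ⊣ gS) (adjp' : pR ⊣ pS)

omit [MonoidalCategory Y₂] in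
theorem extProd_prodShriek [fR.LaxMonoidal] [pR.LaxMonoidal]
    [∀ (A : Y₁) (B : S₀), IsIso (projR adjf A B)] [∀ (A : Y₁) (B : X), IsIso (projL adjp A B)]
    [∀ B : Y₂, IsIso ((bcMor adjf adjq ν).app B)] (A B : S₀) :
    extProd adjf adjp adjq ν (fS.obj A) (gS.obj B) ≫
      fR.map (pR.map (prodShriek adjf adjf' adjg' adjp adjp' adjq ν A B)) ≫
        fR.map (adjp'.counit.app (fS.obj (A ⊗ B))) =
      (fR.obj (fS.obj A) ◁ adjg'.counit.app B) ≫ projR adjf (fS.obj A) B ≫
        fR.map (cupShriek adjf adjf' A B) := by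
  unfold prodShriek
  rw [← fR.map_comp, map_homEquiv_counit]
  unfold extProd
  rw [Category.assoc, Category.assoc, ← fR.map_comp, ← fR.map_comp, IsIso.hom_inv_id_assoc,
    ← MonoidalCategory.whiskerLeft_comp_assoc, IsIso.hom_inv_id, MonoidalCategory.whiskerLeft_id,
    Category.id_comp]
  have h := projR_naturality adjf (𝟙 (fS.obj A)) (adjg'.counit.app B)
  rw [fR.map_id, id_tensorHom, id_tensorHom] at h
  rw [← Category.assoc (_ ◁ _)]
  erw [h]
  rw [Category.assoc, ← fR.map_comp]
  erw [cupShriek_naturality adjf adjf' A (adjg'.counit.app B)]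
  try rfl

omit [MonoidalCategory S₀] [MonoidalCategory Y₁] [MonoidalCategory X] in
theorem comp_symm_eq {U : X} {W : S₀} (g : U ⟶ pS.obj (fS.obj W)) :
    ((adjp'.comp adjf').homEquiv U W).symm g =
      fR.map (pR.map g) ≫ fR.map (adjp'.counit.app (fS.obj W)) ≫ adjf'.counit.app W := by
  rw [Adjunction.homEquiv_counit]
  simp

omit [MonoidalCategory Y₂] in
theorem extProd_symm_prodShriek [fR.LaxMonoidal] [pR.LaxMonoidal]
    [∀ (A : Y₁) (B : S₀), IsIso (projR adjf A B)] [∀ (A : Y₁) (B : X), IsIso (projL adjp A B)]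
    [∀ B : Y₂, IsIso ((bcMor adjf adjq ν).app B)] (A B : S₀) :
    extProd adjf adjp adjq ν (fS.obj A) (gS.obj B) ≫
      ((adjp'.comp adjf').homEquiv _ _).symm (prodShriek adjf adjf' adjg' adjp adjp' adjq ν A B) =
      (adjf'.counit.app A ⊗ₘ adjg'.counit.app B) := by
  rw [comp_symm_eq, ← Category.assoc (fR.map _), ← Category.assoc, extProd_prodShriek,
    Category.assoc, Category.assoc]
  unfold cupShriek
  rw [map_homEquiv_counit, IsIso.hom_inv_id_assoc]
  exact (tensorHom_def' _ _).symm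

end Square

end Groth.Agent.SuslinPi1
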